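import Mathlib

/-!
# (N8) of S3572 (helper61's S-ring farm): the two remaining configurations in the dihedral group of
order 16 (pure finite check over `Finset (ZMod 8)`).
-/

set_option autoImplicit false

namespace Cfsg.Agent.Helper86.Sr

open Finset

set_option maxRecDepth 100000 in
theorem N8_aux1 : ∀ B : Finset (ZMod 8), ¬ (∀ x : ZMod 8, x ≠ 0 →
      (({2, 6} : Finset (ZMod 8)).filter (fun i => x - i ∈ ({2, 6} : Finset (ZMod 8)))).card
        + (B.filter (fun j => j + x ∈ B)).card = 2) := by
  decide +kernel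

set_option maxRecDepth 100000 in
theorem N8_aux2 : ∀ B : Finset (ZMod 8), ¬ (∀ x : ZMod 8, x ≠ 0 →
      (({0, 4} : Finset (ZMod 8)).filter (fun i => x - i ∈ ({0, 4} : Finset (ZMod 8)))).card
        + (B.filter (fun j => j + x ∈ B)).card = 2) := by
  decide +kernel

/-- (N8) the two remaining configurations in the dihedral group of order 16 -/
theorem N8 (B : Finset (ZMod 8)) (A : Finset (ZMod 8))
    (hA : A = {2, 6} ∨ A = {0, 4})
    (hrot : ∀ x : ZMod 8, x ≠ 0 →
      (A.filter (fun i => x - i ∈ A)).card + (B.filter (fun j => j + x ∈ B)).card = 2) :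
    False := by
  rcases hA with rfl | rfl
  · exact N8_aux1 B hrot
  · exact N8_aux2 B hrot

end Cfsg.Agent.Helper86.Sr
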