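import Cfsg.Agent.Helper61.Sr.Basic

/-!
# (DS6) of S3572 (helper61's S-ring farm): the complement of a difference set in a dihedral group
is a difference set.
-/

set_option autoImplicit false
set_option linter.unusedSectionVars false
set_option linter.unusedVariables false

namespace Cfsg.Agent.Helper86.Sr

open Finset DihedralGroup Cfsg.Agent.Helper61.Dih Cfsg.Agent.Helper61.Sr

/-- inclusion-exclusion for the complement, in any finite group -/
theorem ds6_count {H : Type*} [Group H] [Fintype H] [DecidableEq H] (T : Finset H) (y : H) :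
    ((univ \ T).filter (fun c => c⁻¹ * y ∈ univ \ T)).card + T.card + T.card
      = Fintype.card H + (T.filter (fun c => c⁻¹ * y ∈ T)).card := by
  classical
  have hQ : (univ.filter (fun c : H => c⁻¹ * y ∈ T)).card = T.card := by
    apply Finset.card_equiv ((Equiv.inv H).trans (Equiv.mulRight y))
    intro c
    simp
  have h1 : (univ.filter (fun c : H => c ∈ T)).card + (univ.filter (fun c : H => ¬ c ∈ T)).card
      = Fintype.card H := by
    rw [Finset.card_filter_add_card_filter_not, Finset.card_univ]
  have h1' : (univ.filter (fun c : H => c ∈ T)).card = T.card := by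
    congr 1
    ext c
    simp
  have h2 : ((univ.filter (fun c : H => ¬ c ∈ T)).filter (fun c => c⁻¹ * y ∈ T)).card
      + ((univ.filter (fun c : H => ¬ c ∈ T)).filter (fun c => ¬ c⁻¹ * y ∈ T)).card
      = (univ.filter (fun c : H => ¬ c ∈ T)).card :=
    Finset.card_filter_add_card_filter_not _
  have h3 : ((univ.filter (fun c : H => c⁻¹ * y ∈ T)).filter (fun c => c ∈ T)).card
      + ((univ.filter (fun c : H => c⁻¹ * y ∈ T)).filter (fun c => ¬ c ∈ T)).card
      = (univ.filter (fun c : H => c⁻¹ * y ∈ T)).card :=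
    Finset.card_filter_add_card_filter_not _
  have e1 : (univ \ T).filter (fun c => c⁻¹ * y ∈ univ \ T)
      = (univ.filter (fun c : H => ¬ c ∈ T)).filter (fun c => ¬ c⁻¹ * y ∈ T) := by
    ext c
    simp
  have e2 : (univ.filter (fun c : H => c⁻¹ * y ∈ T)).filter (fun c => ¬ c ∈ T)
      = (univ.filter (fun c : H => ¬ c ∈ T)).filter (fun c => c⁻¹ * y ∈ T) := by
    ext c
    simp [and_comm]
  have e3 : (univ.filter (fun c : H => c⁻¹ * y ∈ T)).filter (fun c => c ∈ T)
      = T.filter (fun c => c⁻¹ * y ∈ T) := by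
    ext c
    simp [and_comm]
  rw [e1]
  rw [e2, e3] at h3
  omega

variable {n : ℕ} [NeZero n]

/-- (DS6) the complement of a difference set is a difference set -/
theorem ds_compl (T : Finset (DihedralGroup n)) (hinv : ∀ d ∈ T, d⁻¹ ∈ T) (lam : ℕ)
    (h : IsDs T lam) : ∃ lam' : ℕ, IsDs (univ \ T) lam' := by
  have hne1 : (sr (0 : ZMod n) : DihedralGroup n) ≠ 1 := by
    intro h; rw [one_def] at h; cases h
  have hlam : ∀ y : DihedralGroup n, y ≠ 1 → (T.filter (fun c => c⁻¹ * y ∈ T)).card = lam := by
    intro y hy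
    have := h y hy
    rw [coeff_ind_mul_ind] at this
    exact_mod_cast this
  refine ⟨((univ \ T).filter (fun c => c⁻¹ * sr (0 : ZMod n) ∈ univ \ T)).card, fun y hy => ?_⟩
  rw [coeff_ind_mul_ind]
  have a1 := ds6_count T y
  have a2 := ds6_count T (sr (0 : ZMod n))
  rw [hlam y hy] at a1
  rw [hlam _ hne1] at a2
  have : ((univ \ T).filter (fun c => c⁻¹ * y ∈ univ \ T)).card
      = ((univ \ T).filter (fun c => c⁻¹ * sr (0 : ZMod n) ∈ univ \ T)).card := by omega
  rw [this]

end Cfsg.Agent.Helper86.Sr
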