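import Cfsg.Agent.Helper61.Sr.Basic

/-!
# (Qcore) of S3572 (helper61's S-ring farm): the arithmetic of a reversible difference set in a
dihedral group whose rotation part lies in a proper subgroup.
-/

set_option autoImplicit false
set_option linter.unusedSectionVars false
set_option linter.unusedVariables false

namespace Cfsg.Agent.Helper86.Sr

open Finset

variable {n : ℕ} [NeZero n]

theorem qc_card_filter_add_right (B : Finset (ZMod n)) (i : ZMod n) :
    (univ.filter (fun x : ZMod n => x + i ∈ B)).card = B.card := by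
  apply Finset.card_equiv (Equiv.addRight i)
  intro x
  simp

theorem qc_card_filter_add_left (B : Finset (ZMod n)) (j : ZMod n) :
    (univ.filter (fun x : ZMod n => j + x ∈ B)).card = B.card := by
  apply Finset.card_equiv (Equiv.addLeft j)
  intro x
  simp

theorem qc_sum_right (A B : Finset (ZMod n)) :
    ∑ x : ZMod n, (A.filter (fun i => x + i ∈ B)).card = A.card * B.card := by
  simp only [Finset.card_filter]
  rw [Finset.sum_comm]
  simp only [← Finset.card_filter]
  rw [Finset.sum_congr rfl (fun i _ => qc_card_filter_add_right B i)]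
  simp

theorem qc_sum_left (B : Finset (ZMod n)) :
    ∑ x : ZMod n, (B.filter (fun j => j + x ∈ B)).card = B.card * B.card := by
  simp only [Finset.card_filter]
  rw [Finset.sum_comm]
  simp only [← Finset.card_filter]
  rw [Finset.sum_congr rfl (fun j _ => qc_card_filter_add_left B j)]
  simp

/-- (E1) -/
theorem qc_E1 (A B : Finset (ZMod n)) (lam : ℕ)
    (href : ∀ x : ZMod n, 2 * (A.filter (fun i => x + i ∈ B)).card = lam) :
    2 * (A.card * B.card) = lam * n := by
  rw [← qc_sum_right A B, Finset.mul_sum, Finset.sum_congr rfl (fun x _ => href x)]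
  simp [ZMod.card, mul_comm]

/-- (E2) -/
theorem qc_E2 (A B : Finset (ZMod n)) (lam : ℕ)
    (href : ∀ x : ZMod n, 2 * (A.filter (fun i => x + i ∈ B)).card = lam)
    (K : AddSubgroup (ZMod n)) [DecidablePred (· ∈ K)] (hAK : ∀ i ∈ A, i ∈ K) (c : ZMod n) :
    2 * (A.card * (B.filter (fun z => z - c ∈ K)).card)
      = lam * (univ.filter (fun x : ZMod n => x ∈ K)).card := by
  have hcos : (univ.filter (fun x : ZMod n => x - c ∈ K)).card
      = (univ.filter (fun x : ZMod n => x ∈ K)).card := by
    apply Finset.card_equiv (Equiv.subRight c)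
    intro x
    simp
  have h1 : ∑ x ∈ univ.filter (fun x : ZMod n => x - c ∈ K),
      2 * (A.filter (fun i => x + i ∈ B)).card
      = lam * (univ.filter (fun x : ZMod n => x ∈ K)).card := by
    rw [Finset.sum_congr rfl (fun x _ => href x)]
    simp [hcos, mul_comm]
  rw [← h1, ← Finset.mul_sum]
  congr 1
  simp only [Finset.card_filter]
  rw [Finset.sum_comm]
  rw [← Finset.sum_const_nat (m := ∑ a ∈ B, if a - c ∈ K then 1 else 0) (s := A) (f := fun i =>
    ∑ x ∈ univ.filter (fun x : ZMod n => x - c ∈ K), if x + i ∈ B then 1 else 0)]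
  intro i hi
  simp only [← Finset.card_filter]
  rw [Finset.filter_filter]
  apply Finset.card_equiv (Equiv.addRight i)
  intro x
  simp only [Finset.mem_filter, Finset.mem_univ, true_and, Equiv.coe_addRight]
  have hiK := hAK i hi
  constructor
  · rintro ⟨h1, h2⟩
    refine ⟨h2, ?_⟩
    have : x + i - c = (x - c) + i := by ring
    rw [this]
    exact K.add_mem h1 hiK
  · rintro ⟨h2, h1⟩
    refine ⟨?_, h2⟩
    have : x - c = (x + i - c) - i := by ring
    rw [this]
    exact K.sub_mem h1 hiK

/-- (E3) -/
theorem qc_E3 (A B : Finset (ZMod n)) (lam : ℕ)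
    (hrot : ∀ x : ZMod n, x ≠ 0 →
      (A.filter (fun i => x - i ∈ A)).card + (B.filter (fun j => j + x ∈ B)).card = lam)
    (K : AddSubgroup (ZMod n)) [DecidablePred (· ∈ K)] (hAK : ∀ i ∈ A, i ∈ K) :
    (∑ j ∈ B, (B.filter (fun z => z - j ∈ K)).card)
      + lam * (univ.filter (fun x : ZMod n => x ∉ K)).card = B.card * B.card := by
  rw [← qc_sum_left B,
    ← Finset.sum_filter_add_sum_filter_not univ (fun x : ZMod n => x ∈ K)]
  congr 1
  · simp only [Finset.card_filter]
    conv_rhs => rw [Finset.sum_comm]
    apply Finset.sum_congr rfl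
    intro j hj
    simp only [← Finset.card_filter]
    rw [Finset.filter_filter]
    symm
    apply Finset.card_equiv (Equiv.addLeft j)
    intro x
    simp only [Finset.mem_filter, Finset.mem_univ, true_and, Equiv.coe_addLeft]
    constructor
    · rintro ⟨h1, h2⟩
      refine ⟨h2, ?_⟩
      have : j + x - j = x := by ring
      rw [this]; exact h1
    · rintro ⟨h2, h1⟩
      refine ⟨?_, h2⟩
      have : j + x - j = x := by ring
      rw [this] at h1; exact h1
  · rw [Finset.sum_congr rfl (g := fun _ => lam)]
    · simp [mul_comm]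
    · intro x hx
      rw [Finset.mem_filter] at hx
      have hx0 : x ≠ 0 := by
        rintro rfl
        exact hx.2 K.zero_mem
      have h := hrot x hx0
      have hempty : A.filter (fun i => x - i ∈ A) = ∅ := by
        rw [Finset.filter_eq_empty_iff]
        intro i hi hxi
        apply hx.2
        have : x = (x - i) + i := by ring
        rw [this]
        exact K.add_mem (hAK _ hxi) (hAK _ hi)
      rw [hempty, Finset.card_empty, zero_add] at h
      exact h

/-- the final arithmetic -/
theorem qc_arith (n a b lam k m P : ℕ) (hn : 3 ≤ n) (hkm : k + m = n) (hm : 0 < m)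
    (h1 : 2 * (a * b) = lam * n) (h2 : 2 * (a * P) = b * (lam * k))
    (h3 : P + lam * m = b * b) (hk : 2 ≤ a + b)
    (hcount : (a + b) ^ 2 = a + b + lam * (2 * n - 1)) :
    n = 8 ∧ a = 2 ∧ b = 4 ∧ lam = 2 := by
  have hn1 : 1 ≤ 2 * n := by omega
  have hc : ((a : ℤ) + b) ^ 2 = a + b + lam * (2 * n - 1) := by
    have := congrArg (Nat.cast : ℕ → ℤ) hcount
    push_cast [Nat.cast_sub hn1] at this
    linarith
  have h1' : (2 : ℤ) * (a * b) = lam * n := by exact_mod_cast h1
  have h2' : (2 : ℤ) * (a * P) = b * (lam * k) := by exact_mod_cast h2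
  have h3' : (P : ℤ) + lam * m = b * b := by exact_mod_cast h3
  have hkm' : (k : ℤ) + m = n := by exact_mod_cast hkm
  have key : (lam : ℤ) * m * (b - 2 * a) = 0 := by
    have hk' : (k : ℤ) = n - m := by linarith
    rw [hk'] at h2'
    linear_combination (-(b : ℤ)) * h1' + h2' + (-(2 * (a : ℤ))) * h3'
  have hm' : (m : ℤ) ≠ 0 := by exact_mod_cast hm.ne'
  rcases mul_eq_zero.1 key with h | h
  · rcases mul_eq_zero.1 h with h | h
    · -- lam = 0
      have hl : lam = 0 := by exact_mod_cast h
      subst hl
      have : (a + b) ^ 2 = a + b := by simpa using hcount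
      have h4 : a + b ≤ 1 := by
        by_contra hcon
        have : a + b < (a + b) ^ 2 := by nlinarith
        omega
      omega
    · exact absurd h hm'
  · have hb : (b : ℤ) = 2 * a := by linarith
    have hb' : b = 2 * a := by exact_mod_cast hb
    subst hb'
    -- 4 a² = lam n, 9a² = 3a + lam(2n-1)
    have e1 : (4 : ℤ) * a * a = lam * n := by
      have := h1'
      push_cast at this
      linarith
    have e2 : (a : ℤ) * a = 3 * a - lam := by
      have := hc
      push_cast at this
      nlinarith
    have ha3 : a ≤ 3 := by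
      by_contra hcon
      have : (4 : ℤ) ≤ a := by exact_mod_cast (by omega : 4 ≤ a)
      have hl0 : (0 : ℤ) ≤ lam := by exact_mod_cast Nat.zero_le lam
      nlinarith
    interval_cases a <;> norm_num at e1 e2 hk
    · -- a = 1: lam = 2, n = 2
      have hl : (lam : ℤ) = 2 := by linarith
      have : (n : ℤ) = 2 := by
        rw [hl] at e1
        linarith
      have : n = 2 := by exact_mod_cast this
      omega
    · have hl : (lam : ℤ) = 2 := by linarith
      have hn8 : (n : ℤ) = 8 := by
        rw [hl] at e1
        linarith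
      refine ⟨by exact_mod_cast hn8, rfl, rfl, by exact_mod_cast hl⟩
    · -- a = 3: lam = 0
      have hl : (lam : ℤ) = 0 := by linarith
      rw [hl] at e1
      norm_num at e1

/-- (Qcore) the arithmetic of a reversible difference set whose rotation part lies in a proper
subgroup -/
theorem Qcore (hn : 3 ≤ n) (A B : Finset (ZMod n)) (lam : ℕ) (hneg : ∀ i ∈ A, -i ∈ A)
    (hrot : ∀ x : ZMod n, x ≠ 0 →
      (A.filter (fun i => x - i ∈ A)).card + (B.filter (fun j => j + x ∈ B)).card = lam)
    (href : ∀ x : ZMod n, 2 * (A.filter (fun i => x + i ∈ B)).card = lam)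
    (hk : 2 ≤ A.card + B.card)
    (hcount : (A.card + B.card) ^ 2 = A.card + B.card + lam * (2 * n - 1))
    (K : AddSubgroup (ZMod n)) (hK : K ≠ ⊤) (hAK : ∀ i ∈ A, i ∈ K) :
    n = 8 ∧ A.card = 2 ∧ B.card = 4 ∧ lam = 2 := by
  classical
  have hkm : (univ.filter (fun x : ZMod n => x ∈ K)).card
      + (univ.filter (fun x : ZMod n => x ∉ K)).card = n := by
    rw [Finset.card_filter_add_card_filter_not, Finset.card_univ, ZMod.card]
  have hm : 0 < (univ.filter (fun x : ZMod n => x ∉ K)).card := by
    rw [Finset.card_pos]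
    by_contra hcon
    rw [Finset.not_nonempty_iff_eq_empty, Finset.filter_eq_empty_iff] at hcon
    apply hK
    rw [eq_top_iff]
    intro x _
    by_contra hx
    exact hcon (Finset.mem_univ x) hx
  have h2 : 2 * (A.card * ∑ j ∈ B, (B.filter (fun z => z - j ∈ K)).card)
      = B.card * (lam * (univ.filter (fun x : ZMod n => x ∈ K)).card) := by
    rw [Finset.mul_sum, Finset.mul_sum]
    rw [Finset.sum_congr rfl (fun j _ => qc_E2 A B lam href K hAK j)]
    simp
  exact qc_arith n A.card B.card lam _ _ _ hn hkm hm (qc_E1 A B lam href) h2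
    (qc_E3 A B lam hrot K hAK) hk hcount

end Cfsg.Agent.Helper86.Sr
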